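import Cfsg.Agent.Lib.RankOneSylow.Basic
import Cfsg.Agent.Lib.Involution.Basic
import Cfsg.Agent.S3920

/-!
# Noncyclic subgroups of dihedral 2-groups (owner: helper88)

They are dihedral and contain their centralisers.
-/

set_option autoImplicit false

namespace Cfsg.Agent.RankOneSylow

open Cfsg Subgroup

theorem exists_dihedral_equiv {m a : ℕ} (hm : m = 2 ^ a) (Q : Subgroup (DihedralGroup m))
    (hQ : ¬ IsCyclic Q) : ∃ b : ℕ, 1 ≤ b ∧ Nonempty (Q ≃* DihedralGroup (2 ^ b)) := by
  haveI : NeZero m := ⟨by rw [hm]; positivity⟩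
  haveI := Fact.mk Nat.prime_two
  obtain ⟨i, hi⟩ : ∃ i, DihedralGroup.sr i ∈ Q := by
    by_contra hno
    exact hQ (S3920.rot_isCyclic Q fun x hx => by
      cases x with
      | r j => exact ⟨j, rfl⟩
      | sr j => exact absurd ⟨j, hx⟩ hno)
  set A : Subgroup (DihedralGroup m) := zpowers (DihedralGroup.r 1)
  have hAr : ∀ {x}, x ∈ A → ∃ j, x = DihedralGroup.r j := by
    rintro x ⟨j, rfl⟩; exact ⟨_, DihedralGroup.r_one_zpow j⟩
  obtain ⟨u, hu⟩ : ∃ u, zpowers u = Q ⊓ A :=
    (Subgroup.isCyclic_iff_exists_zpowers_eq_top (H := Q ⊓ A)).1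
      (isCyclic_of_injective (inclusion (inf_le_right : Q ⊓ A ≤ A)) (inclusion_injective _))
  have huQA : u ∈ Q ⊓ A := hu ▸ mem_zpowers u
  obtain ⟨g, rfl⟩ := hAr huQA.2
  set x := DihedralGroup.sr i with hx
  set y := DihedralGroup.sr (i + g) with hy
  have hxy : x * y = DihedralGroup.r g := by rw [hx, hy, DihedralGroup.sr_mul_sr, add_sub_cancel_left]
  have hyQ : y ∈ Q := by
    have := mul_mem hi huQA.1
    rwa [DihedralGroup.sr_mul_r] at this
  have hclo : Q = closure {x, y} := by
    refine le_antisymm (fun z hz => ?_) ((closure_le _).2 ?_)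
    · have hrot : ∀ j, DihedralGroup.r j ∈ Q → DihedralGroup.r j ∈ closure {x, y} := fun j hj => by
        have hjA : DihedralGroup.r j ∈ A := by
          rw [← ZMod.natCast_zmod_val j, ← DihedralGroup.r_one_pow]
          exact pow_mem (mem_zpowers _) _
        have h1 : DihedralGroup.r j ∈ zpowers (DihedralGroup.r g) := hu.symm ▸ ⟨hj, hjA⟩
        refine zpowers_le.2 ?_ h1
        exact hxy ▸ mul_mem (subset_closure (by simp)) (subset_closure (by simp))
      cases z with
      | r j => exact hrot j hz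
      | sr j =>
        have h1 : DihedralGroup.r (j - i) ∈ Q := by
          have := mul_mem hi hz
          rwa [DihedralGroup.sr_mul_sr] at this
        have h2 := mul_mem (subset_closure (by simp : x ∈ ({x, y} : Set _))) (hrot _ h1)
        rwa [hx, DihedralGroup.sr_mul_r, add_sub_cancel] at h2
    · rintro z (rfl | rfl)
      · exact hi
      · exact hyQ
  have hne : x ≠ y := by
    intro h
    refine hQ (hclo ▸ ?_)
    rw [← h, Set.insert_eq_of_mem (Set.mem_singleton x), ← zpowers_eq_closure]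
    infer_instance
  have hord : orderOf (x * y) ∣ 2 ^ a := by
    rw [hxy, orderOf_dvd_iff_pow_eq_one, DihedralGroup.r_pow]
    rw [← hm, ZMod.natCast_self, mul_zero, DihedralGroup.r_zero]
  obtain ⟨b, -, hb⟩ := (Nat.dvd_prime_pow Nat.prime_two).1 hord
  refine ⟨b, Nat.one_le_iff_ne_zero.2 fun h0 => hne ?_, ⟨?_⟩⟩
  · rw [h0, pow_zero, orderOf_eq_one_iff, hxy, DihedralGroup.one_def, DihedralGroup.r.injEq] at hb
    rw [hx, hy, hb, add_zero]
  · rw [← hb]
    exact (MulEquiv.subgroupCongr hclo).trans (Involution.dihedralEquiv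
      (DihedralGroup.orderOf_sr i) (DihedralGroup.orderOf_sr _) hne).symm

theorem centralizer_le {m a : ℕ} (ha : 1 ≤ a) (hm : m = 2 ^ a) (Q : Subgroup (DihedralGroup m))
    (hQ : ¬ IsCyclic Q) : centralizer (Q : Set (DihedralGroup m)) ≤ Q := by
  rcases Nat.lt_or_ge a 2 with h | h
  · obtain ⟨b, hb, ⟨e⟩⟩ := exists_dihedral_equiv hm Q hQ
    have ha1 : a = 1 := by omega
    haveI : NeZero m := ⟨by rw [hm]; positivity⟩
    have : Q = ⊤ := by
      refine eq_top_of_le_card _ ?_
      rw [Nat.card_congr e.toEquiv, DihedralGroup.nat_card, DihedralGroup.nat_card, hm, ha1]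
      exact Nat.mul_le_mul_left 2 (Nat.pow_le_pow_right two_pos hb)
    rw [this]
    exact le_top
  · refine (S3920.result m ?_).2 (Or.inr ⟨a, hm⟩) Q hQ
    rw [hm]
    calc 3 ≤ 2 ^ 2 := by norm_num
      _ ≤ 2 ^ a := Nat.pow_le_pow_right two_pos h

variable {Y : Type*} [Group Y]

/-- A noncyclic subgroup of a dihedral 2-subgroup is dihedral. -/
theorem exists_dihedral_of_le {U W : Subgroup Y} {a : ℕ} (e : U ≃* DihedralGroup (2 ^ a))
    (hW : W ≤ U) (hnc : ¬ IsCyclic W) :
    ∃ b : ℕ, 1 ≤ b ∧ Nonempty (W ≃* DihedralGroup (2 ^ b)) := by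
  let i : W →* DihedralGroup (2 ^ a) := e.toMonoidHom.comp (inclusion hW)
  have e1 : W ≃* i.range := MonoidHom.ofInjective (e.injective.comp (inclusion_injective hW))
  obtain ⟨b, hb, ⟨e2⟩⟩ := exists_dihedral_equiv rfl i.range
    fun h => hnc (haveI := h; isCyclic_of_injective e1.toMonoidHom e1.injective)
  exact ⟨b, hb, ⟨e1.trans e2⟩⟩

/-- A noncyclic subgroup of a dihedral 2-subgroup contains its centraliser there. -/
theorem inf_centralizer_le {U W : Subgroup Y} {a : ℕ} (ha : 1 ≤ a) (e : U ≃* DihedralGroup (2 ^ a))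
    (hW : W ≤ U) (hnc : ¬ IsCyclic W) : U ⊓ centralizer (W : Set Y) ≤ W := by
  rintro c ⟨hcU, hcW⟩
  let i : W →* DihedralGroup (2 ^ a) := e.toMonoidHom.comp (inclusion hW)
  have hnc' : ¬ IsCyclic i.range := fun h => hnc (haveI := h
    isCyclic_of_injective (MonoidHom.ofInjective (f := i) (e.injective.comp (inclusion_injective hW))).toMonoidHom
      (MulEquiv.injective _))
  obtain ⟨w, hw⟩ := centralizer_le ha rfl i.range hnc' (x := e ⟨c, hcU⟩) (by
    rintro _ ⟨w, rfl⟩
    show e _ * e _ = e _ * e _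
    rw [← map_mul, ← map_mul]
    exact congrArg e (Subtype.ext (mem_centralizer_iff.1 hcW w w.2)))
  have := congrArg Subtype.val (e.injective hw)
  change (w : Y) = c at this
  exact this ▸ w.2

end Cfsg.Agent.RankOneSylow
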