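import Cfsg.Prelude.Def_SporadicB
import Cfsg.Agent.Lib.RankOneSylow.Main
import Cfsg.Agent.Lib.SLTwoMult.Basic
import Cfsg.Agent.S0261
import Cfsg.Agent.S1307
import Cfsg.Agent.Lib.SLMult.Psl

/-!
# Perfect groups of 2-rank one modulo their odd core (owner: helper88)

`equiv_of_double_cover`: two perfect central extensions of the same group by kernels of order two coincide
when one has quaternion Sylow 2-subgroups.
`perfect_rank_one`: S3099, given Gorenstein-Walter.
-/

set_option autoImplicit false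

namespace Cfsg.Agent.RankOneSylow

open Cfsg Subgroup
open scoped commutatorElement

universe u

theorem commutator_map_eq_top {A B : Type*} [Group A] [Group B] (f : A →* B) (hf : Function.Surjective f)
    (hB : commutator B = ⊤) : (commutator A).map f = ⊤ := by
  rw [_root_.commutator_def, Subgroup.map_commutator, map_top_of_surjective f hf, ← _root_.commutator_def, hB]

/-- Fibre product argument. -/
theorem equiv_of_double_cover {H S K : Type*} [Group H] [Finite H] [Group S] [Finite S] [Group K]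
    (φ : H →* K) (hφ : Function.Surjective φ) (hφc : φ.ker ≤ center H) (hφ2 : Nat.card φ.ker = 2)
    (ψ : S →* K) (hψ : Function.Surjective ψ) (hψc : ψ.ker ≤ center S) (hψ2 : Nat.card ψ.ker = 2)
    (hH : commutator H = ⊤) (hS : commutator S = ⊤) (Q : Sylow 2 S) {m : ℕ} [NeZero m]
    (eQ : (Q : Subgroup S) ≃* QuaternionGroup m) : Nonempty (H ≃* S) := by
  haveI := Fact.mk Nat.prime_two
  let E : Subgroup (H × S) := (φ.comp (MonoidHom.fst H S)).eqLocus (ψ.comp (MonoidHom.snd H S))
  let π₁ : E →* H := (MonoidHom.fst H S).comp E.subtype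
  let π₂ : E →* S := (MonoidHom.snd H S).comp E.subtype
  have h₁ : Function.Surjective π₁ := fun h => by
    obtain ⟨s, hs⟩ := hψ (φ h)
    exact ⟨⟨(h, s), hs.symm⟩, rfl⟩
  have h₂ : Function.Surjective π₂ := fun s => by
    obtain ⟨h, hh⟩ := hφ (ψ s)
    exact ⟨⟨(h, s), hh⟩, rfl⟩
  let D : Subgroup E := commutator E
  have hD₁ : Function.Surjective (π₁.comp D.subtype) := fun h => by
    obtain ⟨d, hd, rfl⟩ := (commutator_map_eq_top π₁ h₁ hH).ge (mem_top h)
    exact ⟨⟨d, hd⟩, rfl⟩
  have hD₂ : Function.Surjective (π₂.comp D.subtype) := fun s => by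
    obtain ⟨d, hd, rfl⟩ := (commutator_map_eq_top π₂ h₂ hS).ge (mem_top s)
    exact ⟨⟨d, hd⟩, rfl⟩
  have hker₂ : π₂.ker ≤ center E := fun z hz => mem_center_iff.2 fun e => by
    have h0 : (z : H × S).2 = 1 := hz
    have hzφ : (z : H × S).1 ∈ φ.ker := by
      rw [MonoidHom.mem_ker]
      exact (z.2 : φ (z : H × S).1 = ψ (z : H × S).2).trans (show ψ (z : H × S).2 = 1 by rw [h0, map_one])
    refine Subtype.ext (Prod.ext (mem_center_iff.1 (hφc hzφ) _) ?_)
    show (e : H × S).2 * (z : H × S).2 = (z : H × S).2 * (e : H × S).2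
    rw [h0, mul_one, one_mul]
  have hinj : Function.Injective (π₂.comp D.subtype) := by
    rw [injective_iff_map_eq_one]
    intro d hd
    have hzk : (d : E) ∈ π₂.ker := hd
    have h0 : ((d : E) : H × S).2 = 1 := hd
    have hsq : ((d : E)) ^ 2 = 1 := by
      refine Subtype.ext (Prod.ext ?_ ?_)
      · have hm : ((d : E) : H × S).1 ∈ φ.ker := by
          rw [MonoidHom.mem_ker]
          exact ((d : E).2 : φ ((d : E) : H × S).1 = ψ ((d : E) : H × S).2).trans
            (show ψ ((d : E) : H × S).2 = 1 by rw [h0, map_one])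
        show ((d : E) : H × S).1 ^ 2 = 1
        exact congrArg Subtype.val (hφ2 ▸ pow_card_eq_one' : (⟨_, hm⟩ : φ.ker) ^ 2 = 1)
      · show ((d : E) : H × S).2 ^ 2 = 1
        rw [h0, one_pow]
    obtain ⟨P, hP⟩ : ∃ P : Sylow 2 E, (d : E) ∈ (P : Subgroup E) := by
      have hp : IsPGroup 2 (zpowers (d : E)) := fun x => ⟨1, by
        obtain ⟨_, i, rfl⟩ := x
        refine Subtype.ext ?_
        show ((d : E) ^ i) ^ 2 ^ 1 = 1
        rw [pow_one, ← zpow_natCast, ← zpow_mul, mul_comm, zpow_mul, zpow_natCast, hsq, one_zpow]⟩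
      obtain ⟨P, hP⟩ := hp.exists_le_sylow
      exact ⟨P, hP (mem_zpowers _)⟩
    have hz := SLTwoMult.mem_commutator_sylow P ⟨d, hP⟩ (hker₂ hzk) d.2
      (Subtype.ext hsq)
    -- the Sylow subgroup maps onto a quaternion group
    let Q' : Sylow 2 S := P.mapSurjective h₂
    let χ : (P : Subgroup E) →* QuaternionGroup m :=
      (((MulEquiv.subgroupCongr (P.coe_mapSurjective h₂).symm).trans (Q'.equiv Q)).trans eQ).toMonoidHom.comp
        (π₂.subgroupMap (P : Subgroup E))
    have hχ : Function.Surjective χ := by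
      simp only [χ, MonoidHom.coe_comp, MulEquiv.coe_toMonoidHom]
      exact (MulEquiv.surjective _).comp (π₂.subgroupMap_surjective _)
    have hχk : ∀ x, χ x = 1 ↔ π₂ x = 1 := fun x => by
      simp only [χ, MonoidHom.comp_apply, MulEquiv.coe_toMonoidHom, MulEquiv.map_eq_one_iff]
      exact ⟨congrArg Subtype.val, fun h => Subtype.ext h⟩
    have h1 := SLTwoMult.eq_one_of_quaternion χ hχ
      (fun x hx => mem_center_iff.2 fun y => Subtype.ext
        (mem_center_iff.1 (hker₂ ((hχk x).1 hx)) y))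
      hz (MonoidHom.mem_ker.2 ((hχk _).2 hd))
    exact Subtype.ext (show (d : E) = 1 from congrArg Subtype.val h1)
  let e₂ : D ≃* S := MulEquiv.ofBijective _ ⟨hinj, hD₂⟩
  have hcard : Nat.card D = Nat.card H := by
    rw [Nat.card_congr e₂.toEquiv, ← ψ.ker.card_mul_index, ← φ.ker.card_mul_index, index_ker, index_ker,
      hψ2, hφ2, MonoidHom.range_eq_top.2 hψ, MonoidHom.range_eq_top.2 hφ]
  have hbij : Function.Bijective (π₁.comp D.subtype) :=
    hD₁.bijective_of_nat_card_le hcard.le
  exact ⟨(MulEquiv.ofBijective _ hbij).symm.trans e₂⟩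

theorem exists_sq_ne_one {F : Type*} [Field F] [Fintype F] (h : 3 < Fintype.card F) :
    ∃ a : F, a ≠ 0 ∧ a ^ 2 ≠ 1 := by
  classical
  by_contra hno
  push Not at hno
  have hle : Fintype.card F ≤ 3 := by
    calc Fintype.card F = (Finset.univ : Finset F).card := Finset.card_univ.symm
      _ ≤ ({0, 1, -1} : Finset F).card := Finset.card_le_card fun a _ => by
          by_cases ha : a = 0
          · simp [ha]
          · rcases sq_eq_one_iff.mp (hno a ha) with e | e <;> simp [e]
      _ ≤ 3 := Finset.card_le_three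
  omega

/-- **S3099**, given the Gorenstein-Walter statement. -/
theorem perfect_rank_one (hGW : GorensteinWalter.{u}) {X : Type u} [Group X] [Finite X]
    (hperf : commutator X = ⊤) (h1 : Cfsg.PRankLE 2 1 X) (h2 : 2 ∣ Nat.card X)
    [hOn : (Cfsg.oddCore X).Normal] :
    (∃ (F : Type) (_ : Field F) (_ : Fintype F), Odd (Fintype.card F) ∧ 3 < Fintype.card F ∧
        Nonempty (X ⧸ Cfsg.oddCore X ≃* Matrix.SpecialLinearGroup (Fin 2) F)) ∨
      Cfsg.IsNonsplitDoubleCover (X ⧸ Cfsg.oddCore X) ↥(alternatingGroup (Fin 7)) := by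
  haveI := Fact.mk Nat.prime_two
  let q := QuotientGroup.mk' (Cfsg.oddCore X)
  have hq : Function.Surjective q := QuotientGroup.mk'_surjective _
  obtain ⟨S⟩ := (inferInstance : Nonempty (Sylow 2 X))
  have hrS : Cfsg.PRankLE 2 1 (S : Subgroup X) := by
    intro A hA hAp
    refine le_trans (le_of_eq (card_map_of_injective (K := A) (S : Subgroup X).subtype_injective).symm)
      (h1 _ ⟨⟨?_⟩⟩ ?_)
    · rintro ⟨_, a, ha, rfl⟩ ⟨_, b, hb, rfl⟩
      exact Subtype.ext (congrArg (fun z : A => ((z : (S : Subgroup X)) : X))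
        (hA.is_comm.comm ⟨a, ha⟩ ⟨b, hb⟩))
    · rintro _ ⟨a, ha, rfl⟩
      rw [← map_pow, hAp a ha, map_one]
  -- the quotient by the core
  set H := X ⧸ Cfsg.oddCore X with hH
  have hOH : Cfsg.pPrimeCore 2 H = ⊥ := Cores.pPrimeCore_quotient_self 2
  have hHperf : commutator H = ⊤ := by
    rw [eq_top_iff, ← map_top_of_surjective q hq, ← hperf]
    exact (Subgroup.map_commutator _ _ q).le.trans (commutator_mono le_top le_top)
  have hnocomp : ¬ HasNormalPComplement 2 X := by
    rintro ⟨P, N, hN, hc⟩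
    haveI := hN
    haveI : Group.IsNilpotent (X ⧸ N) := by
      obtain ⟨k, hk⟩ := P.2.exists_card_eq
      exact (IsPGroup.of_card (n := k) (p := 2) (G := X ⧸ N)
        (by rw [← index_eq_card, hc.symm.index_eq_card, hk])).isNilpotent
    have htriv : N = ⊤ := eq_top_iff.2 fun x _ => (QuotientGroup.eq_one_iff x).1
      (Frobenius.eq_one_of_perfect hperf (QuotientGroup.mk' N) x)
    have := Transfer.coprime_card_of_isComplement' P hc
    rw [htriv, card_top] at this
    exact (Nat.prime_two.coprime_iff_not_dvd.1 this.symm) h2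
  obtain ⟨n, ⟨e⟩⟩ : ∃ n, Nonempty ((S : Subgroup X) ≃* QuaternionGroup (2 ^ (n + 1))) := by
    have huniq : ∀ x y : (S : Subgroup X), orderOf x = 2 → y ^ 2 = 1 → y ∈ zpowers x := by
      intro x y hx hy
      exact S1307.involution_unique h1 S (fun h => by
        have h0 := x.2
        rw [Subgroup.eq_bot_iff_forall] at h
        rw [← Subgroup.orderOf_coe, h _ h0, orderOf_one] at hx
        omega) x y hx hy
    rcases PGroup.unique_order_p_cases S.2 huniq with hc | ⟨-, k, ⟨e⟩⟩
    · exact absurd (PairsCyclic.hasNormalPComplement_two S hc rfl) hnocomp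
    rcases k with _ | n
    · haveI : IsCyclic (QuaternionGroup (2 ^ 0)) := QuaternionGroup.quaternionGroup_one_isCyclic
      exact absurd (PairsCyclic.hasNormalPComplement_two S
        (isCyclic_of_surjective e.symm.toMonoidHom e.symm.surjective) rfl) hnocomp
    · exact ⟨n, ⟨e⟩⟩
  -- the image Sylow subgroup
  have hqS : Function.Injective (q.subgroupMap (S : Subgroup X)) := by
    rw [injective_iff_map_eq_one]
    rintro ⟨s, hs⟩ hs1
    have hsO : s ∈ Cfsg.oddCore X := (QuotientGroup.eq_one_iff s).1 (congrArg Subtype.val hs1)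
    obtain ⟨k, hk⟩ := IsPGroup.iff_orderOf.1 S.2 ⟨s, hs⟩
    rw [Subgroup.orderOf_mk] at hk
    exact Subtype.ext (orderOf_eq_one_iff.1 (Nat.eq_one_of_dvd_coprimes
      ((Cores.coprime_card_pPrimeCore (G := X) 2).pow_right k)
      (Subgroup.orderOf_dvd_natCard _ hsO) (dvd_of_eq hk)))
  let T : Sylow 2 H := S.mapSurjective hq
  let eS : (S : Subgroup X) ≃* (T : Subgroup H) :=
    (MulEquiv.ofBijective (q.subgroupMap (S : Subgroup X)) ⟨hqS, q.subgroupMap_surjective _⟩).trans
      (MulEquiv.subgroupCongr (S.coe_mapSurjective hq).symm)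
  have hZ2 : Nat.card (center H) = 2 := S0201.result T n (eS.symm.trans e) fun N hN hodd =>
    le_bot_iff.1 ((Cores.le_pPrimeCore hN (hodd.coprime_two_right)).trans hOH.le)
  obtain ⟨zc, hzc⟩ := exists_prime_orderOf_dvd_card' (G := center H) 2 (by rw [hZ2])
  have hzo : orderOf ((zc : center H) : H) = 2 := by rw [Subgroup.orderOf_coe, hzc]
  have hZz : zpowers ((zc : center H) : H) = center H := eq_of_le_of_card_ge (zpowers_le.2 zc.2)
    (by rw [Nat.card_zpowers, hzo, hZ2])
  have hZT : center H ≤ (T : Subgroup H) :=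
    le_trans (Cores.le_pCore inferInstance (IsPGroup.of_card (n := 1) (by rw [hZ2, pow_one])))
      (Cores.pCore_le_sylow T)
  let f := QuotientGroup.mk' (center H)
  have hf : Function.Surjective f := QuotientGroup.mk'_surjective _
  obtain ⟨eU⟩ := quotient_dihedral (G := H) (eS.symm.trans e) (prankLE_of_equiv eS hrS) f (hZT zc.2) hzo
    (by rw [QuotientGroup.ker_mk', hZz])
  have hYperf : commutator (H ⧸ center H) = ⊤ := by
    rw [eq_top_iff, ← map_top_of_surjective f hf, ← hHperf]
    exact (Subgroup.map_commutator _ _ f).le.trans (commutator_mono le_top le_top)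
  have hOY := pPrimeCore_quotient_of_central hZ2 hOH
  have hL := hGW (H ⧸ center H) hYperf (T.mapSurjective hf) (2 ^ (n + 1))
    (by rw [pow_succ']; exact Nat.le_mul_of_pos_right _ (by positivity))
    ⟨(MulEquiv.subgroupCongr (T.coe_mapSurjective hf)).trans eU⟩
  let e0 : (H ⧸ center H) ⧸ Cfsg.oddCore (H ⧸ center H) ≃* H ⧸ center H :=
    (QuotientGroup.quotientMulEquivOfEq hOY).trans QuotientGroup.quotientBot
  rcases hL with ⟨F, hFf, hFin, hodd, h3, ⟨eP⟩⟩ | hA
  · left
    refine ⟨F, hFf, hFin, hodd, h3, ?_⟩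
    obtain ⟨a, ha, ha2⟩ := exists_sq_ne_one h3
    obtain ⟨Q⟩ := (inferInstance : Nonempty (Sylow 2 (Matrix.SpecialLinearGroup (Fin 2) F)))
    obtain ⟨k, -, ⟨eQ⟩⟩ := S0261.result hodd Q
    let φ : H →* Matrix.ProjectiveSpecialLinearGroup (Fin 2) F := (e0.symm.trans eP).toMonoidHom.comp f
    have hkerφ : φ.ker = center H := by
      ext x
      simp only [φ, MonoidHom.mem_ker, MonoidHom.comp_apply, MulEquiv.coe_toMonoidHom, MulEquiv.map_eq_one_iff]
      exact QuotientGroup.eq_one_iff x
    let ψ : Matrix.SpecialLinearGroup (Fin 2) F →* Matrix.ProjectiveSpecialLinearGroup (Fin 2) F :=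
      QuotientGroup.mk' _
    have hkerψ : ψ.ker = center (Matrix.SpecialLinearGroup (Fin 2) F) := QuotientGroup.ker_mk' _
    haveI : NeZero (2 ^ k) := ⟨by positivity⟩
    have hφ : Function.Surjective φ := by
      simp only [φ, MonoidHom.coe_comp, MulEquiv.coe_toMonoidHom]
      exact (e0.symm.trans eP).surjective.comp hf
    refine equiv_of_double_cover φ hφ hkerφ.le (by rw [hkerφ, hZ2])
      ψ (QuotientGroup.mk'_surjective _) hkerψ.le ?_ hHperf (Matrix.SL2.commutator_eq_top ha ha2) Q eQ
    rw [hkerψ, SLMult.card_center_sl 2 (by norm_num)]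
    obtain ⟨j, hj⟩ := hodd
    rw [hj, Nat.add_sub_cancel]
    exact Nat.gcd_eq_left (dvd_mul_right 2 j)
  · right
    obtain ⟨eA⟩ := hA
    refine ⟨hZ2, ⟨e0.symm.trans eA⟩, fun L hL => ?_⟩
    have hLi : L.index = 2 := by rw [hL.index_eq_card, hZ2]
    haveI : L.Normal := normal_of_index_eq_two hLi
    haveI : Group.IsNilpotent (H ⧸ L) :=
      (IsPGroup.of_card (n := 1) (p := 2) (G := H ⧸ L) (by rw [← index_eq_card, hLi, pow_one])).isNilpotent
    have htriv : L = ⊤ := eq_top_iff.2 fun x _ => (QuotientGroup.eq_one_iff x).1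
      (Frobenius.eq_one_of_perfect hHperf (QuotientGroup.mk' L) x)
    rw [htriv, index_top] at hLi
    omega

end Cfsg.Agent.RankOneSylow
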