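import Cfsg.Agent.EqLemmas
import Cfsg.Prelude.Def_Local
import Cfsg.Agent.Lib.PairsCyclic.Main
import Cfsg.Agent.Lib.HallHigman.PSolvable

/-!
# Groups generated by their `p`-elements: generalities (owner: helper88)
-/

set_option autoImplicit false

namespace Cfsg.Agent.RankOneSylow

open Cfsg Subgroup

universe u

variable {G : Type u} [Group G] {p : ℕ} [hp : Fact p.Prime]

omit hp in
/-- The defining hypothesis passes to quotients. -/
theorem gen_map {H : Type*} [Group H] (f : G →* H) (hf : Function.Surjective f)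
    (hgen : Cfsg.pElementClosure p (⊤ : Subgroup G) = ⊤) [Fact p.Prime] :
    Cfsg.pElementClosure p (⊤ : Subgroup H) = ⊤ := by
  refine top_le_iff.1 ((map_top_of_surjective f hf).ge.trans ?_)
  rw [← hgen]
  unfold Cfsg.pElementClosure
  rw [MonoidHom.map_closure, closure_le]
  rintro _ ⟨x, ⟨-, k, hk⟩, rfl⟩
  obtain ⟨j, -, hj⟩ := (Nat.dvd_prime_pow (Fact.out : p.Prime)).1 (hk ▸ orderOf_map_dvd f x)
  exact subset_closure ⟨mem_top _, j, hj⟩

omit hp in
/-- A subgroup containing all `p`-elements is everything. -/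
theorem eq_top_of_forall (hgen : Cfsg.pElementClosure p (⊤ : Subgroup G) = ⊤) {N : Subgroup G}
    (h : ∀ x : G, (∃ k, orderOf x = p ^ k) → x ∈ N) : N = ⊤ := by
  rw [eq_top_iff, ← hgen]
  exact (closure_le _).2 fun x hx => h x hx.2

variable [Finite G]

/-- A normal subgroup containing one Sylow subgroup is everything. -/
theorem eq_top_of_sylow_le (hgen : Cfsg.pElementClosure p (⊤ : Subgroup G) = ⊤) (S : Sylow p G)
    {N : Subgroup G} [N.Normal] (h : (S : Subgroup G) ≤ N) : N = ⊤ := by
  refine eq_top_of_forall hgen fun x ⟨k, hk⟩ => ?_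
  obtain ⟨T, hT⟩ := (IsPGroup.of_card (n := k) (p := p) (G := zpowers x)
    (by rw [Nat.card_zpowers, hk])).exists_le_sylow
  obtain ⟨g, rfl⟩ := MulAction.exists_smul_eq G S T
  have hx := hT (mem_zpowers x)
  rw [Sylow.coe_subgroup_smul, mem_pointwise_smul_iff_inv_smul_mem, ← map_inv, MulAut.smul_def,
    MulAut.conj_apply, inv_inv] at hx
  have := ‹N.Normal›.conj_mem _ (h hx) g
  simpa [mul_assoc] using this

theorem quotient_gen (hgen : Cfsg.pElementClosure p (⊤ : Subgroup G) = ⊤)
    [(Cfsg.pPrimeCore p G).Normal] :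
    Cfsg.pElementClosure p (⊤ : Subgroup (G ⧸ Cfsg.pPrimeCore p G)) = ⊤ :=
  gen_map _ (QuotientGroup.mk'_surjective _) hgen

/-- A normal `p`-complement gives `S O_{p'}(G) = G`. -/
theorem sup_eq_top_of_complement (S : Sylow p G) (h : HasNormalPComplement p G) :
    (S : Subgroup G) ⊔ Cfsg.pPrimeCore p G = ⊤ := by
  obtain ⟨P, N, hN, hc⟩ := h
  haveI := hN
  have hle : N ≤ Cfsg.pPrimeCore p G :=
    Cores.le_pPrimeCore hN (Transfer.coprime_card_of_isComplement' P hc)
  obtain ⟨g, hg⟩ := MulAction.exists_smul_eq G S P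
  have hcop := Transfer.coprime_card_of_isComplement' P hc
  have hci : N.IsComplement' (S : Subgroup G) := by
    refine isComplement'_of_coprime ?_ ?_
    · rw [S.card_eq_multiplicity, ← P.card_eq_multiplicity]
      exact hc.card_mul
    · obtain ⟨k, hk⟩ := IsPGroup.iff_card.1 S.2
      rw [hk]
      exact hcop.pow_right k
  rw [eq_top_iff, ← hci.sup_eq_top, sup_comm]
  exact sup_le_sup_left hle _

/-- In a `p`-solvable group generated by `p`-elements with abelian Sylow subgroup, `S O_{p'}(G) = G`. -/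
theorem sup_eq_top_of_isPSolvable (hgen : Cfsg.pElementClosure p (⊤ : Subgroup G) = ⊤) (S : Sylow p G)
    (hS : IsMulCommutative (S : Subgroup G)) (hsol : Cfsg.IsPSolvable p G)
    [hOn : (Cfsg.pPrimeCore p G).Normal] :
    (S : Subgroup G) ⊔ Cfsg.pPrimeCore p G = ⊤ := by
  let f := QuotientGroup.mk' (Cfsg.pPrimeCore p G)
  have hf : Function.Surjective f := QuotientGroup.mk'_surjective _
  let T : Sylow p (G ⧸ Cfsg.pPrimeCore p G) := S.mapSurjective hf
  have hC := HallHigman.centralizer_pCore_le_of_isPSolvable (PLocal.isPSolvable_surjective hsol f hf)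
    (Cores.pPrimeCore_quotient_self p)
  have hTR : (T : Subgroup _) ≤ Cfsg.pCore p (G ⧸ Cfsg.pPrimeCore p G) := by
    refine le_trans ?_ hC
    rintro _ ⟨s, hs, rfl⟩
    refine mem_centralizer_iff.2 fun r hr => ?_
    obtain ⟨t, ht, rfl⟩ := Cores.pCore_le_sylow T hr
    rw [← map_mul, ← map_mul]
    exact congrArg f (congrArg Subtype.val (hS.is_comm.comm ⟨t, ht⟩ ⟨s, hs⟩))
  haveI : (Cfsg.pCore p (G ⧸ Cfsg.pPrimeCore p G)).Normal := Cores.pCore_normal p _
  have htop := eq_top_of_sylow_le (quotient_gen hgen) T hTR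
  have hT : (T : Subgroup _) = ⊤ := top_le_iff.1 (htop.ge.trans (Cores.pCore_le_sylow T))
  have h := congrArg (comap f) hT
  rw [comap_top, Sylow.coe_mapSurjective, comap_map_eq, QuotientGroup.ker_mk'] at h
  exact h

end Cfsg.Agent.RankOneSylow
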